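import Cfsg.Agent.Omega.NO3b.Chain.Gam
import Cfsg.Agent.Omega.NO3b.Chain.Group
import Cfsg.Agent.Omega.NO3b.Exit.BlkHX
import Cfsg.Agent.Omega.NO3b.Exit.TightBlkMX

/-!
# NotFF (c), local exit: the blocks of `V(L)` at the last member of the chain

* `blk0` : `MX` (the M-side frame of LOC) gives `Blk0`;
* `Stage.exists_blk0` : a panel with `V_H` FF gives `Blk0` for `V = V(L)`, the images `M`, `S` of `M(L)` and `S`;
* `ne_blk` : (NE) `[V_P, S ∩ YM] ≠ 1` and `O²(P) ≤ YM`.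
-/

set_option autoImplicit false

namespace Cfsg.Agent.Omega.NO3b.Chain

open Subgroup Cfsg
open Cfsg.Agent.ZN (o2 zc zl jj zj)
open Cfsg.Agent.ZN.ChoiceBase hiding mem_zc
open Cfsg.Agent.ZN.ChoiceSit (Syl)
open Cfsg.Agent.Omega.MinPar Cfsg.Agent.Omega.Frame Cfsg.Agent.Omega.FrameNOFF
open Cfsg.Agent.Omega.NO3b.EZero (NotFF Par)
open Cfsg.Agent.Omega.NO3b.Alpha (Fl)
open Cfsg.Agent.Omega.NO3b.Wc
open Cfsg.Agent.Omega.NO3b.Exit
open Cfsg.Agent.Omega.NO3b.Exit.Bridge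
open Cfsg.Agent.Omega.NO3b.Exit.TDat (MX sbc FFq ncl KV)
open Cfsg.Agent.Omega.NO3b.Exit.BlkZ (Blk0)
open Cfsg.Agent.Omega.NO3b.Exit.TBlk (sn_sbc_of_le)
open Cfsg.Agent.Omega.FFBr (XX pr im mem_im)
open Cfsg.Agent.Omega.FF.Basic (fx)
open Cfsg.Agent.MinSimple.VModule (oddGen)
open scoped Pointwise

universe u v

/-- The plug `MX → Blk0`. -/
theorem blk0 {Γ : Type u} {U : Type v} [Group Γ] [Finite Γ] [AddCommGroup U] [DistribMulAction Γ U]
    {M X D B : Subgroup Γ} {V F : AddSubgroup U} {g : Γ} (h : MX M X D B V F g) {S : Subgroup Γ} (SM : S ≤ M)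
    (S2 : IsPGroup 2 S) (syl : ¬ 2 ∣ S.relIndex M)
    (_gen : ∀ W : AddSubgroup U, (∀ m ∈ M, ∀ w ∈ W, m • w ∈ W) → (∀ v ∈ V, (∀ s ∈ S, s • v = v) → v ∈ W) → V ≤ W) :
    Blk0 (sbc M (FFq M F)) (FFq M F) (ncl (KV M V h.MV) B) V F (g • V) (fx U B) g⁻¹ M (KV M V h.MV) S where
  dat := h.dat
  KM := fun _ hk => hk.1
  nK := fun _ hm _ hk => h.KV_norm hm hk
  mV := h.MV
  kV := fun _ hk => hk.2
  kB := fun _ hk _ hb => TDat.ncl_conj hk hb
  sn := sn_sbc_of_le MX.FFq_le_M h.sbc_le_KV fun _ hk => hk.1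
  SM := SM
  S2 := S2
  syl := syl

variable {G : Type u} [Group G] [Finite G] {S : Sylow 2 G} {P L F T X : Subgroup G}

/-- The blocks of `V(L)` in a module `U ≥ V(L)` for a group `H ≥ M(L)`. -/
def HasBlk (S L : Subgroup G) {U H : Subgroup G} (hH : H ≤ normalizer (U : Set G))
    (hU : U ≤ centralizer (U : Set G)) : Prop :=
  ∃ (Y Q BB KV : Subgroup (XX hH)) (F Lw C : AddSubgroup (MU hU)) (x : XX hH),
    Blk0 Y Q BB (ad hU (VL S L)) F Lw C x (im hH (ML S L)) KV (im hH S)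

/-- **(γ)** gives the blocks of `V(L)`. -/
theorem Stage.hasBlk (h : Stage S L) (hc : IsCharacteristicTwoType G) (hne : zc (S : Subgroup G) ≠ ⊥)
    (f : Fl S (VL (S : Subgroup G) L) F T) (hZ : zc (S : Subgroup G) ≤ F)
    (p : Par (VL (S : Subgroup G) L) F T X) (hff : ¬ NotFF (UU (S : Subgroup G) L X)) :
    HasBlk (S : Subgroup G) L (hN (S : Subgroup G) L X) (h.cU hc hne f hZ p) := by
  obtain ⟨A, x, -, -, -, -, m⟩ := h.exists_mx hc hne f hZ p hff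
  exact ⟨_, _, _, _, _, _, _, _, blk0 m (SM_bar _ h) (S2_bar _) (syl_bar h _ Step.ML_le)
    (gen_bar_stage _ _ Step.ML_le Step.V_le)⟩

/-- **(NE)** -/
theorem ne_blk {U H : Subgroup G} {hH : H ≤ normalizer (U : Set G)} {hU : U ≤ centralizer (U : Set G)}
    (hc : IsCharacteristicTwoType G) (hne : zc (S : Subgroup G) ≠ ⊥) (hPar : IsPar (S : Subgroup G) P)
    (hP : Stage S P) (r : Reach S P L) (hMH : ML (S : Subgroup G) L ≤ H) (hVU : VL (S : Subgroup G) L ≤ U)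
    {Y Q BB KV : Subgroup (XX hH)} {F Lw C : AddSubgroup (MU hU)} {x : XX hH}
    (B : Blk0 Y Q BB (ad hU (VL (S : Subgroup G) L)) F Lw C x (im hH (ML (S : Subgroup G) L)) KV
      (im hH (S : Subgroup G))) :
    (¬ ∀ s ∈ im hH (S : Subgroup G) ⊓ B.YM, ∀ v ∈ ad hU (zl (S : Subgroup G) P), s • v = v) ∧
      im hH (oddGen P) ≤ B.YM := by
  refine ne_im hH hc hne hPar hP r hMH hVU B.YM (fun m hm n hn => B.YM_conj hm hn) (fun x hx hxS v hv hvS =>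
    B.hX hx hxS hv fun s hs hsY => hvS s ⟨hs, hsY⟩) fun h0 => ?_
  obtain ⟨s, hs, hsY, v, hv, hne⟩ := B.moves
  exact hne (h0 s ⟨hs, hsY⟩ v hv)

end Cfsg.Agent.Omega.NO3b.Chain
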