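import Cfsg.Agent.Omega.NO3b.Chain.Group
import Cfsg.Agent.Omega.NO3b.Exit.BlkTr
import Cfsg.Agent.Omega.NO3b.Exit.DescGrp

/-!
# NotFF (c), local exit: the shape of `V_P` (helper255, bb 20076, 20845)

`L` is reached from `P ∈ P*(S)`; `U`, `h : H ≤ N_G(U)`, `M(L) ≤ H`, `V(L) ≤ U`;
`B : Blk0 .. (im h M(L)) KV (im h S)` on `ad V(L)`.

* `zl_le_odd` : `V_P = ⟨Z^{O²(P)}⟩`;
* `pf` : `PF B (im h O²(P)) (ad V_P)` (helper697's (MIN), (NE), (CZ));
* `gdat` : `GDat V_P O²(P) S`;
* **`exists_shape`** : `V_P` is the direct product of subgroups `E_j`, irreducible under `P`, pairwise isomorphic as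
  `O²(P)`- and as `S`-groups, not centralised by `O²(P)`.
-/

set_option autoImplicit false

namespace Cfsg.Agent.Omega.NO3b.Chain

open Subgroup Cfsg
open Cfsg.Agent.ZN (o2 zc zl jj zj)
open Cfsg.Agent.ZN.ChoiceBase hiding mem_zc
open Cfsg.Agent.ZN.ChoiceSit (Syl o2_le_syl)
open Cfsg.Agent.Omega.MinPar Cfsg.Agent.Omega.Frame Cfsg.Agent.Omega.FrameNOFF
open Cfsg.Agent.Omega.NO3b.EZero (NotFF Par cent_symm oddGen_sup_syl)
open Cfsg.Agent.Omega.NO3b.Wc
open Cfsg.Agent.MinSimple.VModule (oddGen oddGen_le le_normalizer_zl zl_le le_centralizer_zc mem_zc zc_le_zl zc_sq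
  zc_comm le_normalizer_oddGen)
open Cfsg.Agent.Omega.NO3b.Exit.Bridge
open Cfsg.Agent.Omega.NO3b.Exit.LocBar (pr_mem_im im_mono im_smul)
open Cfsg.Agent.Omega.NO3b.Exit.BlkZ (Blk0 PF)
open Cfsg.Agent.Omega.NO3b.Exit.Descent (ring op op_mem GDat)
open Cfsg.Agent.Omega.FFBr (XX pr im mem_im)

universe u

variable {G : Type u} [Group G] [Finite G] {S : Sylow 2 G} {P L : Subgroup G}

/-- `V_P = ⟨Z^{O²(P)}⟩` -/
theorem zl_le_odd (hPar : IsPar (S : Subgroup G) P) {A : Subgroup G} (hZ : zc (S : Subgroup G) ≤ A)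
    (hO : ∀ o ∈ oddGen P, ∀ a ∈ A, o * a * o⁻¹ ∈ A) : zl (S : Subgroup G) P ≤ A := by
  refine iSup_le fun g => ?_
  rintro _ ⟨z, hz, rfl⟩
  have hg : (g : G) ∈ oddGen P ⊔ (S : Subgroup G) := by rw [oddGen_sup hPar]; exact g.2
  have hn : (S : Subgroup G) ≤ normalizer (oddGen P : Set G) := hPar.le.trans (le_normalizer_oddGen P)
  rw [sup_comm] at hg
  have hn2 : ((oddGen P).subgroupOf ((S : Subgroup G) ⊔ oddGen P)).Normal :=
    normal_subgroupOf_of_le_normalizer (sup_le hn le_normalizer)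
  obtain ⟨o, ho, s, hs, e⟩ : ∃ o ∈ oddGen P, ∃ s ∈ (S : Subgroup G), o * s = g := by
    have h1 : (⟨(g : G), hg⟩ : ((S : Subgroup G) ⊔ oddGen P : Subgroup G)) ∈
        (oddGen P).subgroupOf ((S : Subgroup G) ⊔ oddGen P) ⊔ (S : Subgroup G).subgroupOf ((S : Subgroup G) ⊔ oddGen P) := by
      rw [← subgroupOf_sup le_sup_right le_sup_left, sup_comm (oddGen P), subgroupOf_self]
      trivial
    obtain ⟨a, ha, b, hb, hab⟩ := mem_sup_of_normal_left.1 h1
    exact ⟨a, mem_subgroupOf.1 ha, b, mem_subgroupOf.1 hb, congrArg Subtype.val hab⟩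
  have hsz : s * z = z * s := (mem_zc.1 hz).2.1 s hs
  change (g : G) * z * (g : G)⁻¹ ∈ A
  have e2 : (g : G) * z * (g : G)⁻¹ = o * z * o⁻¹ := by
    rw [← e]
    calc o * s * z * (o * s)⁻¹ = o * (s * z) * s⁻¹ * o⁻¹ := by group
      _ = o * (z * s) * s⁻¹ * o⁻¹ := by rw [hsz]
      _ = o * z * o⁻¹ := by group
  rw [e2]
  exact hO o ho z (hZ hz)

variable {H U : Subgroup G} (h : H ≤ normalizer (U : Set G)) {hcU : U ≤ centralizer (U : Set G)}

/-- The part of `P`. -/
theorem pf (hc : IsCharacteristicTwoType G) (hne : zc (S : Subgroup G) ≠ ⊥) (hPar : IsPar (S : Subgroup G) P)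
    (hn : NonLoc P (CZ (S : Subgroup G))) (hP : Stage S P) (r : Reach S P L) (hMH : ML (S : Subgroup G) L ≤ H)
    (hVU : VL (S : Subgroup G) L ≤ U) {Y Q BB KV : Subgroup (XX h)} {F L₀ C : AddSubgroup (MU hcU)} {x : XX h}
    (B : Blk0 Y Q BB (ad hcU (VL (S : Subgroup G) L)) F L₀ C x (im h (ML (S : Subgroup G) L)) KV
      (im h (S : Subgroup G))) : PF B (im h (oddGen P)) (ad hcU (zl (S : Subgroup G) P)) := by
  have hst := r.stage hc hne hP
  have hPM : P ≤ ML (S : Subgroup G) L := (r.le hc hne hP).trans hst.toRoot.L_le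
  have hPH : P ≤ H := hPM.trans hMH
  have hPV : zl (S : Subgroup G) P ≤ VL (S : Subgroup G) L := Stage.zl_le_of_le hst.toRoot (r.le hc hne hP)
  have hOV : oddGen P ≤ normalizer (zl (S : Subgroup G) P : Set G) := (oddGen_le P).trans (le_normalizer_zl _ _)
  have hne' := ne_im h hc hne hPar hP r hMH hVU B.YM (fun m hm n hn => B.YM_conj hm hn)
    (fun y hy hyS v hv hvS => B.hX hy hyS hv fun s hs hsY => hvS s ⟨hs, hsY⟩) (by
      intro h0
      obtain ⟨s, hs, hsY, v, hv, hne⟩ := B.moves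
      exact hne (h0 s ⟨hs, hsY⟩ v hv))
  refine
    { OM := im_mono h ((oddGen_le P).trans hPM)
      gen := ?_
      fix := ?_
      VO := fun o ho v hv => im_smul h hOV ho hv
      min := ?_
      ne := ?_
      cz := fun z hz hzS hzO => cz_im h hPar hn hst.toRoot hPH z hz hzS hzO }
  · intro W hW hWS
    have h1 : zl (S : Subgroup G) P ≤ un W := by
      refine zl_le_odd hPar ?_ ?_
      · intro z hzz
        have hzV : z ∈ VL (S : Subgroup G) L := Root.zc_le_V hzz
        refine ⟨mk hcU (hVU hzV), hWS _ hzV ?_, rfl⟩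
        rintro _ ⟨a, ha, rfl⟩
        exact (pr_smul_eq_iff' h).2 ((mem_zc.1 hzz).2.1 _ ha)
      · rintro o ho _ ⟨w, hw, rfl⟩
        exact ⟨_, hW _ (pr_mem_im h ho (hPH (oddGen_le P ho))) w hw, rfl⟩
    intro w hw
    exact val_mem_un.1 (h1 hw)
  · intro z hz hzS
    refine zc_le_zl _ _ (mem_zc_of hst.toRoot hz (mem_centralizer_iff.2 fun s hs => ?_))
    exact (pr_smul_eq_iff' h).1 (hzS _ (pr_mem_im h hs (hPH (hPar.le hs))))
  · intro N _ hO hS
    rcases min_im h hc hPar hPH (hPV.trans hVU) N hO hS with h1 | h1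
    · exact Or.inl h1
    · exact Or.inr fun s hs hsN v hv => h1 s ⟨hs, hsN⟩ v hv
  · by_contra hcon
    push Not at hcon
    exact hne'.1 fun s hs v hv => hcon s hs.1 hs.2 v hv

omit [Finite G] in
/-- sums of lists of elements of `A` act as an element of the ring generated by `im h A` -/
theorem exists_ring_list {A : Subgroup G} (hA : A ≤ H) {K : Subgroup (XX h)} (hK : im h A ≤ K) (l : List G)
    (hl : ∀ x ∈ l, x ∈ A) : ∃ c ∈ ring (MU hcU) K, ∀ w : MU hcU, val (c w) = (l.map fun x => x * val w * x⁻¹).prod := by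
  induction l with
  | nil => exact ⟨0, zero_mem _, fun w => rfl⟩
  | cons a l ih =>
    obtain ⟨c, hc, h1⟩ := ih fun x hx => hl x (List.mem_cons_of_mem a hx)
    have ha : a ∈ A := hl a List.mem_cons_self
    refine ⟨op (MU hcU) (pr h ⟨a, hA ha⟩) + c, add_mem (op_mem (hK (pr_mem_im h ha (hA ha)))) hc, fun w => ?_⟩
    rw [List.map_cons, List.prod_cons, ← h1]
    rfl

/-- `GDat` for `V_P` -/
theorem gdat (hc : IsCharacteristicTwoType G) (hne : zc (S : Subgroup G) ≠ ⊥) (hPar : IsPar (S : Subgroup G) P)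
    (hn : NonLoc P (CZ (S : Subgroup G))) (hP : Stage S P) (r : Reach S P L) (hMH : ML (S : Subgroup G) L ≤ H)
    (hVU : VL (S : Subgroup G) L ≤ U) {Y Q BB KV : Subgroup (XX h)} {F L₀ C : AddSubgroup (MU hcU)} {x : XX h}
    (B : Blk0 Y Q BB (ad hcU (VL (S : Subgroup G) L)) F L₀ C x (im h (ML (S : Subgroup G) L)) KV
      (im h (S : Subgroup G))) : GDat (zl (S : Subgroup G) P) (oddGen P) (S : Subgroup G) := by
  have hst := r.stage hc hne hP
  have hPM : P ≤ ML (S : Subgroup G) L := (r.le hc hne hP).trans hst.toRoot.L_le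
  have hPH : P ≤ H := hPM.trans hMH
  have hPV : zl (S : Subgroup G) P ≤ VL (S : Subgroup G) L := Stage.zl_le_of_le hst.toRoot (r.le hc hne hP)
  have hOV : oddGen P ≤ normalizer (zl (S : Subgroup G) P : Set G) := (oddGen_le P).trans (le_normalizer_zl _ _)
  have p := pf h hc hne hPar hn hP r hMH hVU B
  have hfix : ∀ z (hz : z ∈ zl (S : Subgroup G) P), z ∈ centralizer ((S : Subgroup G) : Set G) →
      ∀ s ∈ im h (S : Subgroup G), s • (mk hcU (hVU (hPV hz))) = mk hcU (hVU (hPV hz)) := by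
    rintro z hz hzS _ ⟨a, ha, rfl⟩
    exact (pr_smul_eq_iff' h).2 (mem_centralizer_iff.1 hzS _ ha)
  exact
    { comm := hP.comm
      sq := fun v hv => by rw [← sq]; exact hP.sq v hv
      two := S.isPGroup'
      SV := hPar.le.trans (le_normalizer_zl _ _)
      XV := hOV
      SX := hPar.le.trans (le_normalizer_oddGen P)
      gen := by
        intro A hAV hOA hZA
        refine le_antisymm hAV (zl_le_odd hPar ?_ fun o ho a ha => (mem_normalizer_iff.1 (hOA ho) a).1 ha)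
        intro z hz
        exact hZA ⟨zc_le_zl _ _ hz, mem_centralizer_iff.2 fun s hs => (mem_zc.1 hz).2.1 s hs⟩
      ann := by
        intro z z' hz hz1 hzS hz' hzS' l hl h0
        obtain ⟨c, hcK, h1⟩ := exists_ring_list (hcU := hcU) h ((oddGen_le P).trans hPH)
          (p.O_le.trans B.YM_le) l hl
        have h2 := p.ann (z := mk hcU (hVU (hPV hz))) (z' := mk hcU (hVU (hPV hz'))) (hPV hz)
          (fun h3 => hz1 (congrArg val h3)) (hfix z hz hzS) (hPV hz') (hfix z' hz' hzS') hcK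
          (val_inj (by rw [h1]; exact h0))
        have h3 := congrArg val h2
        rw [h1] at h3
        exact h3 }

/-- **The shape of `V_P`.** -/
theorem exists_shape (hc : IsCharacteristicTwoType G) (hne : zc (S : Subgroup G) ≠ ⊥)
    (hPar : IsPar (S : Subgroup G) P)
    (hn : NonLoc P (CZ (S : Subgroup G))) (hP : Stage S P) (r : Reach S P L) (hMH : ML (S : Subgroup G) L ≤ H)
    (hVU : VL (S : Subgroup G) L ≤ U) {Y Q BB KV : Subgroup (XX h)} {F L₀ C : AddSubgroup (MU hcU)} {x : XX h}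
    (B : Blk0 Y Q BB (ad hcU (VL (S : Subgroup G) L)) F L₀ C x (im h (ML (S : Subgroup G) L)) KV
      (im h (S : Subgroup G))) :
    ∃ (k : ℕ) (E : Fin k → Subgroup G), 0 < k ∧ iSupIndep E ∧ (⨆ j, E j) = zl (S : Subgroup G) P ∧
      (∀ j, P ≤ normalizer (E j : Set G)) ∧
      (∀ j, ∀ A : Subgroup G, A ≤ E j → P ≤ normalizer (A : Set G) → A = ⊥ ∨ A = E j) ∧
      (∀ j, ¬ E j ≤ centralizer (oddGen P : Set G)) ∧
      ∀ i j, ∃ f : E i ≃* E j, (∀ y ∈ oddGen P, ∀ v w : E i, (w : G) = y * v * y⁻¹ → (f w : G) = y * f v * y⁻¹) ∧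
        ∀ s ∈ (S : Subgroup G), ∀ v w : E i, (w : G) = s * v * s⁻¹ → (f w : G) = s * f v * s⁻¹ := by
  have hst := r.stage hc hne hP
  obtain ⟨k, E, h1, h2, h3, h4, h5, h6, h7, h8⟩ := (gdat h hc hne hPar hn hP r hMH hVU B).exists_pow
  have hPE : ∀ j, P ≤ normalizer (E j : Set G) := by
    intro j
    have h9 : oddGen P ⊔ (S : Subgroup G) ≤ normalizer (E j : Set G) := sup_le (h5 j) (h6 j)
    rwa [oddGen_sup hPar] at h9
  refine ⟨k, E, ?_, h2, h3, hPE, ?_, ?_, h8⟩
  · rcases Nat.eq_zero_or_pos k with rfl | h0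
    · exfalso
      apply hne
      rw [iSup_of_empty] at h3
      exact le_bot_iff.1 ((zc_le_zl _ _).trans h3.ge)
    · exact h0
  · intro j A hA hPA
    by_cases hA1 : A = ⊥
    · exact Or.inl hA1
    · exact Or.inr (h7 j A hA hA1 ((oddGen_le P).trans hPA) (hPar.le.trans hPA))
  · intro j hcen
    -- a fixed point of `S` on `E j`
    have hEV : E j ≤ zl (S : Subgroup G) P := h1 j
    have hE2 : IsPGroup 2 (E j) := fun x => ⟨1, Subtype.ext (by
      have h9 := hP.sq x (hEV x.2)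
      simpa using h9)⟩
    have h9 := PLocal.OffenderStep.inf_centralizer_ne_bot (E j) (S : Subgroup G) hE2 S.isPGroup' (h6 j) (h4 j)
    obtain ⟨z, hz1⟩ := Subgroup.ne_bot_iff_exists_ne_one.1 h9
    apply hz1
    have hzE := (mem_inf.1 z.2).1
    have hzS := (mem_inf.1 z.2).2
    have hzc : (z : G) ∈ zc (S : Subgroup G) :=
      mem_zc_of hP.toRoot (Root.zl_le_V hP.toRoot (hEV hzE)) hzS
    have h10 : P ≤ centralizer ((zpowers (z : G) : Subgroup G) : Set G) := by
      rw [← oddGen_sup hPar]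
      refine sup_le ?_ ?_
      · rw [le_centralizer_iff, zpowers_le]
        exact hcen hzE
      · refine (le_centralizer_zc _).trans (centralizer_le ?_)
        exact (zpowers_le.2 hzc)
    have h11 := hn (zpowers (z : G)) (S.isPGroup'.to_le ((zpowers_le.2 hzc).trans
      (MinSimple.VModule.zc_le _))) (h10.trans (centralizer_le_normalizer _)) (by
        refine le_trans ?_ (centralizer_le_normalizer _)
        exact centralizer_le (zpowers_le.2 hzc))
    rw [zpowers_eq_bot] at h11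
    exact Subtype.ext h11

end Cfsg.Agent.Omega.NO3b.Chain
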