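import Cfsg.Agent.Omega.NO3b.Chain.Shape
import Cfsg.Agent.Omega.NO3b.Chain.ShapeP
import Cfsg.Agent.Omega.NO3b.Chain.ToGeo

/-!
# NotFF (c), local exit: the glue

* `Beta2 G` : THEOREM BETA2 (helper235, #20914): at a member of the chain no panel has `V_H` not FF and
  `V_H ≰ O₂(C_G(Z))`;
* `last_gamma` : so at the last member every panel has `V_H` FF (case (γ));
* `EndData` : what is known at the last member `L` of the chain from `P`;
* `EndS K` : the remaining socket (the exact end of #19499 with all data); `locChain_of`, `notFF_of_end`.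
-/

set_option autoImplicit false

namespace Cfsg.Agent.Omega.NO3b.Chain

open Subgroup Cfsg
open Cfsg.Agent.ZN (o2 zc zl jj zj)
open Cfsg.Agent.ZN.ChoiceBase hiding mem_zc
open Cfsg.Agent.Omega.MinPar Cfsg.Agent.Omega.Frame Cfsg.Agent.Omega.FrameNOFF
open Cfsg.Agent.Omega.NO3b.EZero (NotFF Par)
open Cfsg.Agent.Omega.NO3b.Alpha (Fl)
open Cfsg.Agent.Omega.NO3b.NoEmp (Lines)
open Cfsg.Agent.Omega.NO3b.Wc
open Cfsg.Agent.Omega.NO3b.ClosedPt (Flag Clo Geo GoodAt End Out)
open Cfsg.Agent.Omega.ML.Final (MLK)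

universe u

/-- **THEOREM BETA2** (#20914). -/
def Beta2 : Prop :=
  ∀ (G : Type u) [Group G] [Finite G] (S : Sylow 2 G) (L F T X : Subgroup G), Stage S L →
    IsCharacteristicTwoType G → zc (S : Subgroup G) ≠ ⊥ → Fl S (VL (S : Subgroup G) L) F T →
      zc (S : Subgroup G) ≤ F → Par (VL (S : Subgroup G) L) F T X →
        NotFF (zl (S : Subgroup G) (nx (S : Subgroup G) L X)) →
          zl (S : Subgroup G) (nx (S : Subgroup G) L X) ≤ o2 (centralizer (zc (S : Subgroup G) : Set G))

/-- **The shape of `V_P`** (helper255: `exists_shape` and `k ≥ 2`). -/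
def ShapeS : Prop :=
  ∀ (G : Type u) [Group G] [Finite G] (S : Sylow 2 G) (P L : Subgroup G), IsCharacteristicTwoType G →
    zc (S : Subgroup G) ≠ ⊥ → IsPar (S : Subgroup G) P → NonLoc P (CZ (S : Subgroup G)) → Stage S P →
      Reach S P L → ∀ (U H : Subgroup G) (hH : H ≤ normalizer (U : Set G)) (hU : U ≤ centralizer (U : Set G)),
        ML (S : Subgroup G) L ≤ H → VL (S : Subgroup G) L ≤ U → HasBlk (S : Subgroup G) L hH hU → SH (S : Subgroup G) P

variable {G : Type u} [Group G] [Finite G]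

/-- At the last member every panel over `Z` has `V_H` FF. -/
theorem last_gamma (hB : Beta2.{u}) {S : Sylow 2 G} {L F T X : Subgroup G} (hc : IsCharacteristicTwoType G)
    (hne : zc (S : Subgroup G) ≠ ⊥) (h : Stage S L) (hl : ∀ F T X, ¬ Step S L F T X)
    (f : Fl S (VL (S : Subgroup G) L) F T) (hZ : zc (S : Subgroup G) ≤ F) (p : Par (VL (S : Subgroup G) L) F T X) :
    ¬ NotFF (zl (S : Subgroup G) (nx (S : Subgroup G) L X)) := by
  intro hn
  rcases last_or hc hne h hl f hZ p with h1 | h1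
  · exact h1 hn
  · exact h1 (hB G S L F T X h hc hne f hZ p hn)

/-- What is known at the last member `L` of the chain from `P`. -/
structure EndData (S : Sylow 2 G) (P L : Subgroup G) : Prop where
  hyp : NO3S.HypC S
  nff : ∀ P : Subgroup G, IsParS (S : Subgroup G) P → NonLoc P (CZ (S : Subgroup G)) →
    ¬ NO3S.FFMod (S : Subgroup G) P
  par : IsParS (S : Subgroup G) P
  nonloc : NonLoc P (CZ (S : Subgroup G))
  ne : zc (S : Subgroup G) ≠ ⊥
  stageP : Stage S P
  reach : Reach S P L
  stage : Stage S L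
  last : ∀ F T X : Subgroup G, ¬ Step S L F T X
  gamma : ∀ F T X : Subgroup G, Fl S (VL (S : Subgroup G) L) F T → zc (S : Subgroup G) ≤ F →
    Par (VL (S : Subgroup G) L) F T X → ¬ NotFF (zl (S : Subgroup G) (nx (S : Subgroup G) L X))
  panel : ∃ F T X : Subgroup G, Fl S (VL (S : Subgroup G) L) F T ∧ zc (S : Subgroup G) ≤ F ∧
    Par (VL (S : Subgroup G) L) F T X
  shape : SH (S : Subgroup G) P
  geo : Geo (S : Subgroup G) (zc (S : Subgroup G)) (zl (S : Subgroup G) P) P
  good : ∀ D : Subgroup G, Clo (S : Subgroup G) (zc (S : Subgroup G)) (zl (S : Subgroup G) P) D →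
    D ≠ zl (S : Subgroup G) P →
      ∃ lam T₀, GoodAt ((S : Subgroup G) ⊓ centralizer (D : Set G)) (zl (S : Subgroup G) P) D lam T₀

/-- `C_G(Z)` is a K-group. -/
theorem kgroup_centralizer (hG : Ctx G) {Z : Subgroup G} (hne : Z ≠ ⊥) : IsKGroup (centralizer (Z : Set G)) := by
  refine hG.kproper _ fun htop => ?_
  have := hG.simple
  have hZ : Z ≤ center G := by
    intro z hz
    rw [mem_center_iff]
    intro g
    have hg : g ∈ centralizer (Z : Set G) := by rw [htop]; exact mem_top g
    exact (mem_centralizer_iff.1 hg z hz).symm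
  rcases (inferInstance : (center G).Normal).eq_bot_or_eq_top with h1 | h1
  · exact hne (le_bot_iff.1 (hZ.trans h1.le))
  · apply hG.nonComm
    refine ⟨⟨fun a b => ?_⟩⟩
    have hb : b ∈ center G := by rw [h1]; exact mem_top b
    exact mem_center_iff.1 hb a

variable (K : Cls.{u})

/-- **The exact end** of #19499 with all data. -/
def EndS : Prop :=
  ∀ (G : Type u) [Group G] [Finite G], K G → ∀ (S : Sylow 2 G) (P L : Subgroup G), EndData S P L →
    ∀ (D B lam T₀ : Subgroup G) (e : End (S : Subgroup G) (zc (S : Subgroup G)) (zl (S : Subgroup G) P) D B),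
      Out e lam T₀ → IsKnownSimple' G

/-- The K-free form of the exact end. -/
def ExactEnd : Prop :=
  ∀ (G : Type u) [Group G] [Finite G], IsKProper G → ∀ (S Z V D B lam T₀ : Subgroup G) (e : End S Z V D B),
    Out e lam T₀ → False

variable {K}

theorem EndS.of_exact (h : ExactEnd.{u}) : EndS K := fun G _ _ _ S _ _ d D B lam T₀ e o =>
  (h G d.hyp.ctx.kproper (S : Subgroup G) _ _ D B lam T₀ e o).elim

/-- **`LocChain K` from BETA2, the shape, (ML) and the exact end.** -/
theorem locChain_of (hB : Beta2.{u}) (hS : ShapeS.{u}) (ml : MLK.{u, u}) (hE : EndS K) : LocChain K := by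
  intro G _ _ hK S hyp hff P L hP hn hsP r hsL hlines hnz hlast
  have hc := hyp.ctx.char2
  have hne : zc (S : Subgroup G) ≠ ⊥ := by
    intro h0
    apply hnz
    have h1 : (S : Subgroup G) = ⊥ := by
      by_contra hS
      exact MinSimple.Basic.zc_ne_bot S.isPGroup' hS h0
    have h2 := hP.toIsPar.isLoc
    exact absurd (le_bot_iff.1 ((h2.o2_le S).trans h1.le)) h2.o2_ne
  obtain ⟨F, T, X, f, hZ, p⟩ := hsL.exists_panel hc hne hnz
  have hgam : ∀ F T X : Subgroup G, Fl S (VL (S : Subgroup G) L) F T → zc (S : Subgroup G) ≤ F →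
      Par (VL (S : Subgroup G) L) F T X → ¬ NotFF (zl (S : Subgroup G) (nx (S : Subgroup G) L X)) :=
    fun F T X f hZ p => last_gamma hB hc hne hsL hlast f hZ p
  have sh := hS G S P L hc hne hP.toIsPar hn hsP r _ _ _ _ Step.ML_le Step.V_le
    (hsL.hasBlk hc hne f hZ p (hgam F T X f hZ p))
  obtain ⟨D, B, e, lam, T₀, o⟩ := hsP.exists_out hc hne hP.toIsPar hn sh ml (kgroup_centralizer hyp.ctx hne)
  exact hE G hK S P L ⟨hyp, hff, hP, hn, hne, hsP, r, hsL, hlast, hgam, ⟨F, T, X, f, hZ, p⟩, sh,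
    hsP.geo hc hne hn, hsP.good_of_sh hc hP.toIsPar sh⟩ D B lam T₀ e o

/-- **The leaf NotFF** from BETA2, the shape, (ML) and the exact end. -/
theorem notFF_of_end (hB : Beta2.{u}) (hS : ShapeS.{u}) (ml : MLK.{u, u}) (hE : EndS K) : NO3S.NotFF K :=
  notFF_of_locChain (locChain_of hB hS ml hE)

end Cfsg.Agent.Omega.NO3b.Chain
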