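import Cfsg.Agent.Omega.NO3b.Chain.Leaf
import Cfsg.Agent.Omega.NOThreeL.MergeSingle

/-!
# NotFF (c): ONE member `P ∈ P*(S)`, `⟨P, C_G(Z)⟩` nonlocal, with `V_P` not FF

The chain of helper957 (`Leaf.lean`) for `HypG S P`, one `P ∈ P*(S)`; the other members of `P*(S)` may be FF
(this is how `Node.NO3SLevel.InL.jc` uses the socket; `NO3S.NotFF K` is not enough).

* `EndG`, `EndGS K` : the data at the last member and the socket of the exact end over them;
* `known_of_endG`, `notFFP_of_endG` : `Merge.NotFFP K` from `MLK` and `EndGS K`;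
* `false_of_exact`, `notFFP_of_exact` : `Merge.NotFFP K` from `MLK` and the K-free `ExactEnd`.

Author: helper111.
-/

set_option autoImplicit false

namespace Cfsg.Agent.Omega.NO3b.Chain

open Subgroup Cfsg
open Cfsg.Agent.ZN (o2 zc zl)
open Cfsg.Agent.Omega.MinPar Cfsg.Agent.Omega.Frame Cfsg.Agent.Omega.FrameNOFF
open Cfsg.Agent.Omega.NO3b.EZero (NotFF Par)
open Cfsg.Agent.Omega.NO3b.Alpha (Fl)
open Cfsg.Agent.Omega.NO3b.Wc
open Cfsg.Agent.Omega.ML.Final (MLK)
open Cfsg.Agent.Omega.NOThreeL.Merge (HypG NotFFP)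
open Cfsg.Agent.Omega.NO3b.ClosedPt (Clo Geo GoodAt End Out)

universe u

variable {G : Type u} [Group G] [Finite G]

/-- What is known at the last member `L` of the chain from one `P` with `HypG S P` (`EndData` without
`HypC` and without 'no nonlocal member is FF'). -/
structure EndG (S : Sylow 2 G) (P L : Subgroup G) : Prop where
  hyp : HypG S P
  par : IsParS (S : Subgroup G) P
  ne : zc (S : Subgroup G) ≠ ⊥
  stageP : Stage S P
  reach : Reach S P L
  stage : Stage S L
  last : ∀ F T X : Subgroup G, ¬ Step S L F T X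
  gamma : ∀ F T X : Subgroup G, Fl S (VL (S : Subgroup G) L) F T → zc (S : Subgroup G) ≤ F →
    Par (VL (S : Subgroup G) L) F T X → ¬ NotFF (zl (S : Subgroup G) (nx (S : Subgroup G) L X))
  panel : ∃ F T X : Subgroup G, Fl S (VL (S : Subgroup G) L) F T ∧ zc (S : Subgroup G) ≤ F ∧
    Par (VL (S : Subgroup G) L) F T X
  shape : SH (S : Subgroup G) P
  geo : Geo (S : Subgroup G) (zc (S : Subgroup G)) (zl (S : Subgroup G) P) P
  good : ∀ D : Subgroup G, Clo (S : Subgroup G) (zc (S : Subgroup G)) (zl (S : Subgroup G) P) D →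
    D ≠ zl (S : Subgroup G) P →
      ∃ lam T₀, GoodAt ((S : Subgroup G) ⊓ centralizer (D : Set G)) (zl (S : Subgroup G) P) D lam T₀

/-- the data exist -/
theorem exists_endG (ml : MLK.{u, u}) {S : Sylow 2 G} {P : Subgroup G} (hyp : HypG S P)
    (hP : IsParS (S : Subgroup G) P) : ∃ L, EndG S P L ∧
      ∃ (D B : Subgroup G) (e : End (S : Subgroup G) (zc (S : Subgroup G)) (zl (S : Subgroup G) P) D B)
        (lam T₀ : Subgroup G), Out e lam T₀ := by
  have hc := hyp.ctx.char2
  have hne : zc (S : Subgroup G) ≠ ⊥ := by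
    intro h0
    have h1 : (S : Subgroup G) = ⊥ := by
      by_contra hS
      exact MinSimple.Basic.zc_ne_bot S.isPGroup' hS h0
    have h2 := hP.toIsPar.isLoc
    exact h2.o2_ne (le_bot_iff.1 ((h2.o2_le S).trans h1.le))
  have hst := stage_of hc hP hyp.nff hyp.lowM
  obtain ⟨L, r, hlast⟩ := exists_last hc hne hst
  have hsL := r.stage hc hne hst
  have hnz := Root.nle hsL.toRoot (r.le hc hne hst) hyp.nonLoc hne
  obtain ⟨F, T, X, f, hZ, p⟩ := hsL.exists_panel hc hne hnz
  have hgam : ∀ F T X : Subgroup G, Fl S (VL (S : Subgroup G) L) F T → zc (S : Subgroup G) ≤ F →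
      Par (VL (S : Subgroup G) L) F T X → ¬ NotFF (zl (S : Subgroup G) (nx (S : Subgroup G) L X)) :=
    fun F T X f hZ p => last_gamma beta2 hc hne hsL hlast f hZ p
  have sh := shapeS G S P L hc hne hP.toIsPar hyp.nonLoc hst r _ _ _ _ Step.ML_le Step.V_le
    (hsL.hasBlk hc hne f hZ p (hgam F T X f hZ p))
  exact ⟨L, ⟨hyp, hP, hne, hst, r, hsL, hlast, hgam, ⟨F, T, X, f, hZ, p⟩, sh,
      hst.geo hc hne hyp.nonLoc, hst.good_of_sh hc hP.toIsPar sh⟩,
    hst.exists_out hc hne hP.toIsPar hyp.nonLoc sh ml (kgroup_centralizer hyp.ctx hne)⟩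

/-- The exact end at one member (K-free). -/
theorem false_of_exact (ml : MLK.{u, u}) (hE : ExactEnd.{u}) {S : Sylow 2 G}
    {P : Subgroup G} (hyp : HypG S P) (hP : IsParS (S : Subgroup G) P) : False := by
  obtain ⟨L, -, D, B, e, lam, T₀, o⟩ := exists_endG ml hyp hP
  exact hE G hyp.ctx.kproper (S : Subgroup G) _ _ D B lam T₀ e o

variable (K : Cls.{u})

/-- **The exact end** of #19499 at one member, with all data. -/
def EndGS : Prop :=
  ∀ (G : Type u) [Group G] [Finite G], K G → ∀ (S : Sylow 2 G) (P L : Subgroup G), EndG S P L →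
    ∀ (D B lam T₀ : Subgroup G) (e : End (S : Subgroup G) (zc (S : Subgroup G)) (zl (S : Subgroup G) P) D B),
      Out e lam T₀ → IsKnownSimple' G

variable {K}

/-- **NO-3S needs only this** (the form with data). -/
theorem notFFP_of_endG (ml : MLK.{u, u}) (hE : EndGS K) : NotFFP K := by
  intro G _ _ hK S P hyp hP
  obtain ⟨L, d, D, B, e, lam, T₀, o⟩ := exists_endG ml hyp hP
  exact hE G hK S P L d D B lam T₀ e o

/-- **NO-3S needs only this.** -/
theorem notFFP_of_exact (ml : MLK.{u, u}) (hE : ExactEnd.{u}) : NotFFP K :=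
  fun _ _ _ _ _ _ hyp hP => (false_of_exact ml hE hyp hP).elim

end Cfsg.Agent.Omega.NO3b.Chain
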