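import Cfsg.Agent.Omega.NO3b.Chain.Two
import Cfsg.Agent.Omega.NO3b.Exit.TightLoc
import Cfsg.Agent.Omega.NO3b.Exit.TightMX
import Cfsg.Agent.Omega.NO3b.Exit.LocBar

/-!
# NotFF (c), local exit: case (γ) at the last member of the chain (#18319, #18653)

`L` a member of the chain, `(F, T, X)` a panel of `V = V(L)`, `H = ⟨M(L), X⟩`, `U = V_H = ⟨Z^H⟩`, `Γ = XX hN` the group
induced by `H` on `U`.

* `Stage.sit` : the panel acts on `U` (`Bridge.Sit`);
* `Stage.red` : `O₂(M / C_M(V)) = 1` for the image `M` of `M(L)`;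
* `Stage.mx` : `V_H` FF: the M-side frame `MX` for the images of `M(L)`, `X`, `W(L)`, `A` for every line `x V` moved by
  the optimal offender `A ≤ W(L)`; `Stage.exists_mx`;
* `Stage.gen_bar`, `Stage.syl_bar` : fields of `Blk`.
-/

set_option autoImplicit false

namespace Cfsg.Agent.Omega.NO3b.Chain

open Subgroup Cfsg
open Cfsg.Agent.ZN (o2 zc zl jj zj)
open Cfsg.Agent.ZN.ChoiceBase hiding mem_zc
open Cfsg.Agent.ZN.ChoiceSit (Syl o2_le_syl syl_not_dvd)
open Cfsg.Agent.MinSimple.EmptyTI (syl_of_le)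
open Cfsg.Agent.Omega.NO3b.EZero (NotFF Par)
open Cfsg.Agent.Omega.NO3b.Alpha (Fl)
open Cfsg.Agent.Omega.NO3b.NoEmp (Lines)
open Cfsg.Agent.Omega.NOThreeL.Star (Opt)
open Cfsg.Agent.Omega.NO3b.Wc
open Cfsg.Agent.Omega.NO3b.Exit
open Cfsg.Agent.Omega.NO3b.Exit.Bridge
open Cfsg.Agent.Omega.NO3b.Exit.TDat (MX Red mx_of_tight)
open Cfsg.Agent.Omega.FFBr (XX pr im mem_im)
open Cfsg.Agent.Omega.FF.Basic (fx)
open Cfsg.Agent.Omega.NO3b.Exit.TT (nf)
open Cfsg.Agent.MinSimple.VModule (zc_le_zl zl_le le_normalizer_zl le_normalizer_o2 o2_le oddGen)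
open scoped Pointwise

universe u

variable {G : Type u} [Group G] {S L F T X : Subgroup G}

/-- `U = V_H = ⟨Z^H⟩`, `H = ⟨M(L), X⟩` -/
abbrev UU (S L X : Subgroup G) : Subgroup G := zl S (nx S L X)

/-- `H` normalises `U` -/
theorem hN (S L X : Subgroup G) : nx S L X ≤ normalizer (UU S L X : Set G) := le_normalizer_zl _ _

variable [Finite G]

section stage

variable {S : Sylow 2 G} (h : Stage S L) (hc : IsCharacteristicTwoType G) (hne : zc (S : Subgroup G) ≠ ⊥)
  (f : Fl S (VL (S : Subgroup G) L) F T) (hZ : zc (S : Subgroup G) ≤ F) (p : Par (VL (S : Subgroup G) L) F T X)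
include h hc hne f hZ p

theorem Stage.cU : UU (S : Subgroup G) L X ≤ centralizer (UU (S : Subgroup G) L X : Set G) :=
  zl_cent ((h.fr hc hne f hZ p).SH (h.adm hc hne)) (h.fr hc hne f hZ p).char2

/-- the panel acts on `U` -/
theorem Stage.sit : Sit (VL (S : Subgroup G) L) F T X (UU (S : Subgroup G) L X) :=
  Sit.of_fl hc (h.lines hc hne) f p (h.cU hc hne f hZ p)
    (zl_sq' ((h.fr hc hne f hZ p).SH (h.adm hc hne)) (h.fr hc hne f hZ p).char2) Step.V_le
    (Step.X_le.trans (le_normalizer_zl _ _))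

omit hc hne f hZ p in
/-- `O₂(M / C_M(V)) = 1` -/
theorem red_of_stage {U H : Subgroup G} (hN : H ≤ normalizer (U : Set G)) (hU : U ≤ centralizer (U : Set G))
    (hM : ML (S : Subgroup G) L ≤ H) (hVU : VL (S : Subgroup G) L ≤ U) :
    Red (im hN (ML (S : Subgroup G) L)) (ad hU (VL (S : Subgroup G) L)) :=
  LocBar.red_im (S := (S : Subgroup G)) (Z := zc (S : Subgroup G)) hN hM (syl_of_le (h.S_le)) hVU
    (ML_le_norm_V _ _) (zc_le_zl _ _) (MinSimple.VModule.le_centralizer_zc _) fun _ hW hWM => zl_le hW hWM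

/-- the M-side frame for every line moved by `A` -/
theorem Stage.mx {A : Subgroup G} (hA : Opt (UU (S : Subgroup G) L X) A) (hAW : A ≤ WH (S : Subgroup G) L)
    (hAX : ¬ A ≤ o2 X) (h2 : K0.Mix.Two (VL (S : Subgroup G) L) X)
    {x : ↥(im (hN (S : Subgroup G) L X) X)}
    (hx : ¬ imx (hN (S : Subgroup G) L X) X A ≤
      nf _ (sm x (ad (h.cU hc hne f hZ p) (VL (S : Subgroup G) L)))) :
    MX (im (hN (S : Subgroup G) L X) (ML (S : Subgroup G) L)) (im (hN (S : Subgroup G) L X) X)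
      (im (hN (S : Subgroup G) L X) (WH (S : Subgroup G) L)) (im (hN (S : Subgroup G) L X) A)
      (ad (h.cU hc hne f hZ p) (VL (S : Subgroup G) L)) (ad (h.cU hc hne f hZ p) F) (x : XX (hN (S : Subgroup G) L X)) := by
  have s := h.sit hc hne f hZ p
  have fr := h.fr hc hne f hZ p
  have hXH : X ≤ nx (S : Subgroup G) L X := Step.X_le
  have hMH : ML (S : Subgroup G) L ≤ nx (S : Subgroup G) L X := Step.ML_le
  obtain ⟨P, hP⟩ := s.exists_syl (hN (S : Subgroup G) L X) hXH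
  have hAT : A ≤ T := hAW.trans fr.BT
  have hAXX : A ≤ X := hAT.trans s.syl.1
  have e : (imx (hN (S : Subgroup G) L X) X A).map (im (hN (S : Subgroup G) L X) X).subtype =
      im (hN (S : Subgroup G) L X) A := by
    unfold imx
    rw [subgroupOf_map_subtype]
    exact inf_eq_left.2 (LocBar.im_mono _ hAXX)
  have hSM : (S : Subgroup G) ≤ ML (S : Subgroup G) L := h.S_le
  have key := mx_of_tight (faith (hc := s.cm) (hN (S : Subgroup G) L X)) (s.datU (hN (S : Subgroup G) L X) hXH hP)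
    (s.mbu (hN (S : Subgroup G) L X) hXH hA hAT hAX) (by
      intro h0
      refine s.two_ne hA hAT hAX h2 fun a ha => ?_
      have h1 : phi (hN (S : Subgroup G) L X) hXH ⟨a, hAXX ha.1⟩ ∈
          imx (hN (S : Subgroup G) L X) X A ⊓ pCore 2 ↥(im (hN (S : Subgroup G) L X) X) :=
        ⟨phi_mem_imx _ hXH ha.1, (s.mem_core_iff _ hXH (hAT ha.1)).2 ha.2⟩
      rw [h0, mem_bot] at h1
      exact (phi_eq_one _ hXH).1 h1)
    (M := im (hN (S : Subgroup G) L X) (ML (S : Subgroup G) L))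
    (D := im (hN (S : Subgroup G) L X) (WH (S : Subgroup G) L))
    (fun m hm v hv => LocBar.im_smul _ (ML_le_norm_V _ _) hm hv)
    (LocBar.im_mono _ (fr.BT.trans s.syl.1)) (by rw [e]; exact LocBar.im_mono _ hAW)
    (fun m hm d hd => LocBar.im_conj _ (by rfl) hm hd)
    (fun d hd v hv => LocBar.im_fix _ h.WH_cent hd hv) (by
      rw [← s.core_eq (hN (S : Subgroup G) L X) hXH]
      unfold imx
      rw [subgroupOf_map_subtype]
      refine inf_le_left.trans (LocBar.im_mono _ ?_)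
      exact (o2_le_syl s.syl).trans (f.T_le.trans hSM)) (red_of_stage h _ _ hMH Step.V_le) hx
  rwa [e] at key

omit hZ p in
/-- **(γ)**: the M-side frame at the last member of the chain. -/
theorem Stage.exists_mx (hZ : zc (S : Subgroup G) ≤ F) (p : Par (VL (S : Subgroup G) L) F T X)
    (hff : ¬ NotFF (UU (S : Subgroup G) L X)) :
    ∃ (A : Subgroup G) (x : XX (hN (S : Subgroup G) L X)), Opt (UU (S : Subgroup G) L X) A ∧
      A ≤ WH (S : Subgroup G) L ∧ ¬ A ≤ o2 X ∧ x ∈ im (hN (S : Subgroup G) L X) X ∧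
      MX (im (hN (S : Subgroup G) L X) (ML (S : Subgroup G) L)) (im (hN (S : Subgroup G) L X) X)
        (im (hN (S : Subgroup G) L X) (WH (S : Subgroup G) L)) (im (hN (S : Subgroup G) L X) A)
        (ad (h.cU hc hne f hZ p) (VL (S : Subgroup G) L)) (ad (h.cU hc hne f hZ p) F) x := by
  obtain ⟨A, hA, hAW, hAX⟩ := h.exists_opt hc hne f hZ p hff
  have s := h.sit hc hne f hZ p
  have hXH : X ≤ nx (S : Subgroup G) L X := Step.X_le
  have hAT : A ≤ T := hAW.trans (h.fr hc hne f hZ p).BT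
  obtain ⟨x, hx⟩ := (s.tight (hN (S : Subgroup G) L X) hXH hA hAT hAX).ex
  exact ⟨A, x, hA, hAW, hAX, x.2,
    h.mx hc hne f hZ p hA hAW hAX (h.two hc hne f hZ p (Or.inl hff)) hx⟩

end stage

/-! ### the fields `syl`, `S2`, `gen` of `Blk` -/

section bar

variable {S : Sylow 2 G} (h : Stage S L) {U H : Subgroup G} (hN : H ≤ normalizer (U : Set G))
  (hU : U ≤ centralizer (U : Set G)) (hM : ML (S : Subgroup G) L ≤ H)

theorem SM_bar (h : Stage S L) : im hN (S : Subgroup G) ≤ im hN (ML (S : Subgroup G) L) :=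
  LocBar.im_mono _ h.S_le

omit [Finite G] in
theorem S2_bar : IsPGroup 2 (im hN (S : Subgroup G)) := LocBar.isPGroup_im _ S.isPGroup'

include h hM in
theorem syl_bar : ¬ 2 ∣ (im hN (S : Subgroup G)).relIndex (im hN (ML (S : Subgroup G) L)) :=
  syl_not_dvd (LocBar.syl_im hN (syl_of_le h.S_le) hM)

omit [Finite G] in
/-- `V = ⟨C_V(S)^M⟩` -/
theorem gen_bar {M V : Subgroup G} (hM : M ≤ H) (hVU : V ≤ U) (hZV : zc (S : Subgroup G) ≤ V)
    (hV : ∀ W : Subgroup G, zc (S : Subgroup G) ≤ W → M ≤ normalizer (W : Set G) → V ≤ W)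
    (W : AddSubgroup (MU hU)) (hW : ∀ m ∈ im hN M, ∀ w ∈ W, m • w ∈ W)
    (hZW : ∀ v ∈ ad hU V, (∀ s ∈ im hN (S : Subgroup G), s • v = v) → v ∈ W) : ad hU V ≤ W := by
  have h1 : V ≤ un W := by
    refine hV _ (fun z hz => ?_) fun m hm => ?_
    · have h2 : mk hU (hVU (hZV hz)) ∈ W := by
        refine hZW _ (hZV hz) fun s hs => LocBar.im_fix hN (MinSimple.VModule.le_centralizer_zc _) hs (v := mk hU _) ?_
        exact hz
      exact ⟨_, h2, rfl⟩
    · have key : ∀ a : G, a ∈ M → ∀ w ∈ un W, a * w * a⁻¹ ∈ un W := by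
        rintro a ha _ ⟨w, hw, rfl⟩
        exact ⟨pr hN ⟨a, hM ha⟩ • w, hW _ (LocBar.pr_mem_im hN ha (hM ha)) w hw, rfl⟩
      rw [mem_normalizer_iff]
      intro w
      refine ⟨key m hm w, fun hw => ?_⟩
      have h2 := key m⁻¹ (inv_mem hm) _ hw
      have e : m⁻¹ * (m * w * m⁻¹) * m⁻¹⁻¹ = w := by group
      rwa [e] at h2
  intro v hv
  exact val_mem_un.1 (h1 hv)

omit [Finite G] in
/-- the same for `V(L)` -/
theorem gen_bar_stage (hM : ML (S : Subgroup G) L ≤ H) (hVU : VL (S : Subgroup G) L ≤ U)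
    (W : AddSubgroup (MU hU)) (hW : ∀ m ∈ im hN (ML (S : Subgroup G) L), ∀ w ∈ W, m • w ∈ W)
    (hZW : ∀ v ∈ ad hU (VL (S : Subgroup G) L), (∀ s ∈ im hN (S : Subgroup G), s • v = v) → v ∈ W) :
    ad hU (VL (S : Subgroup G) L) ≤ W :=
  gen_bar hN hU hM hVU (zc_le_zl _ _) (fun _ hW hWM => zl_le hW hWM) W hW hZW

end bar

end Cfsg.Agent.Omega.NO3b.Chain
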