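import Cfsg.Agent.Omega.NO3b.Chain.Glue
import Cfsg.Agent.Omega.NO3b.Chain.ShapeTwo
import Cfsg.Agent.Omega.NO3b.BetaTwo.Main

/-!
# NotFF (c), local exit: the leaf NotFF from (ML) and the exact end

* `beta2` : THEOREM BETA2 (helper235) in the form of the socket;
* `shapeS` : the shape of `V_P` (helper255) in the form of the socket;
* `locChain_of_end`, `notFF_of_endS`, `notFF_of_exact` : `NO3S.NotFF K` from `MLK` and `EndS K` (or `ExactEnd`).
-/

set_option autoImplicit false

namespace Cfsg.Agent.Omega.NO3b.Chain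

open Subgroup Cfsg
open Cfsg.Agent.ZN (o2 zc zl)
open Cfsg.Agent.Omega.MinPar Cfsg.Agent.Omega.Frame Cfsg.Agent.Omega.FrameNOFF
open Cfsg.Agent.Omega.ML.Final (MLK)

universe u

/-- **THEOREM BETA2** (helper235). -/
theorem beta2 : Beta2.{u} := fun _ _ _ _ _ _ _ _ h hc hne f hZ p hn => BetaTwo.beta2 h hc hne f hZ p hn

/-- **The shape of `V_P`** (helper255). -/
theorem shapeS : ShapeS.{u} := by
  intro G _ _ S P L hc hne hPar hn hP r U H hH hU hMH hVU ⟨Y, Q, BB, KV, F, Lw, C, x, B⟩
  exact exists_shape_two hH hc hne hPar hn hP r hMH hVU B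

variable {K : Cls.{u}}

/-- **`LocChain K` from (ML) and the exact end.** -/
theorem locChain_of_end (ml : MLK.{u, u}) (hE : EndS K) : LocChain K := locChain_of beta2 shapeS ml hE

/-- **The leaf NotFF from (ML) and the exact end with all data.** -/
theorem notFF_of_endS (ml : MLK.{u, u}) (hE : EndS K) : NO3S.NotFF K := notFF_of_end beta2 shapeS ml hE

/-- **The leaf NotFF from (ML) and the K-free exact end.** -/
theorem notFF_of_exact (ml : MLK.{u, u}) (hE : ExactEnd.{u}) : NO3S.NotFF K :=
  notFF_of_endS ml (EndS.of_exact hE)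

end Cfsg.Agent.Omega.NO3b.Chain
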