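import Cfsg.Agent.Omega.NO3b.Chain.Leaf

/-! See `Leaf.lean` (helper957): `shapeS`, `beta2`, `locChain_of_end`, `notFF_of_exact`. -/
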